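import Mathlib

/-!
Finite checks on the alternating group of degree six.
-/

set_option autoImplicit false

namespace Cfsg.Agent.SylQuot.AltSix

/-- The alternating group of degree six. -/
abbrev A6 : Type := ↥(alternatingGroup (Fin 6))

/-- The reference involution. -/
def z0 : A6 :=
  ⟨Equiv.swap 0 1 * Equiv.swap 2 3, Equiv.Perm.mem_alternatingGroup.mpr (by decide +kernel)⟩

/-- A three-cycle. -/
def p3 : A6 :=
  ⟨Equiv.swap 0 1 * Equiv.swap 1 2, Equiv.Perm.mem_alternatingGroup.mpr (by decide +kernel)⟩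

/-- A five-cycle. -/
def q5 : A6 :=
  ⟨Equiv.swap 1 2 * Equiv.swap 2 3 * Equiv.swap 3 4 * Equiv.swap 4 5,
    Equiv.Perm.mem_alternatingGroup.mpr (by decide +kernel)⟩

theorem conj_z0 : ∀ d : A6, d * d = 1 → d ≠ 1 → ∃ g : A6, g * z0 * g⁻¹ = d := by decide +kernel

theorem card_involutions :
    (Finset.univ.filter fun d : A6 => d * d = 1 ∧ d ≠ 1).card = 45 := by decide +kernel

theorem card_fives : (Finset.univ.filter fun d : A6 => d ^ 5 = 1 ∧ d ≠ 1).card = 144 := by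
  decide +kernel

theorem sigma_or_five : ∀ w : A6, w * w = 1 → (z0 * w) ^ 5 = 1 ∧ z0 * w ≠ 1 ∨
    ∃ σ : Equiv.Perm (Fin 6), σ * z0.1 = z0.1 * σ ∧ σ * w.1 = w.1 * σ ∧
      (σ * p3.1 ≠ p3.1 * σ ∨ σ * q5.1 ≠ q5.1 * σ) := by decide +kernel

theorem five_centralizer : ∀ w : A6, w * w = 1 → (z0 * w) ^ 5 = 1 → z0 * w ≠ 1 →
    (Finset.univ.filter fun x : A6 => x * (z0 * w) = z0 * w * x).card = 5 := by
  decide +kernel

set_option synthInstance.maxSize 2000 in
theorem five_inverters : ∀ w : A6, ∀ x : A6, w * w = 1 → (z0 * w) ^ 5 = 1 → z0 * w ≠ 1 →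
    x * x = 1 → x * (z0 * w) * x⁻¹ = (z0 * w)⁻¹ → ∃ i : Fin 5, x = z0 * (z0 * w) ^ i.val := by
  decide +kernel

theorem card_A6 : Nat.card A6 = 360 := by
  rw [Nat.card_eq_fintype_card]
  decide +kernel

end Cfsg.Agent.SylQuot.AltSix
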