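import Cfsg.Agent.SylQuot.Checks
import Cfsg.Agent.Compute.Classes
import Cfsg.Prelude.Def_Transfer
import Mathlib.GroupTheory.Nilpotent

/-!
The quotient by the centre of a Sylow 2-subgroup of `M24`.
-/

set_option autoImplicit false

namespace Cfsg.Agent.SylQuot

open Cfsg
open Cfsg.Agent.Compute

theorem ofC_code : ∀ n : Fin 512, (WNine.ofC n).toC = n.val := by decide +kernel

theorem WNine.isPGroup : IsPGroup 2 WNine := by
  have h : Nat.card WNine = 2 ^ 9 := by
    rw [Nat.card_congr (Equiv.ofBijective (fun x : WNine => (⟨x.toC, x.toC_lt⟩ : Fin 512))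
      ⟨fun x y h => WNine.toC_injective (congrArg Fin.val h),
        fun n => ⟨WNine.ofC n, Fin.ext (ofC_code n)⟩⟩), Nat.card_fin]
    norm_num
  exact IsPGroup.of_card h

theorem comB_iff (x y : WNine) : comB x.toC y.toC = true ↔ x * y = y * x := by
  rw [comB, Nat.beq_eq, WNine.ofC_toC, WNine.ofC_toC]
  exact ⟨fun h => WNine.toC_injective h, fun h => by rw [h]⟩

/-- A predicate on the codes bounds the number of elements satisfying it. -/
theorem card_le_length {p : ℕ → Bool} (s : Set WNine) (hs : ∀ x ∈ s, p x.toC = true) :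
    Nat.card s ≤ ((List.range 512).filter p).length := by
  rw [Nat.card_coe_set_eq]
  have hsub : WNine.toC '' s ⊆ (((List.range 512).filter p).toFinset : Set ℕ) := by
    rintro _ ⟨x, hx, rfl⟩
    rw [List.coe_toFinset, Set.mem_setOf_eq, List.mem_filter, List.mem_range]
    exact ⟨x.toC_lt, hs x hx⟩
  have h := Set.ncard_le_ncard hsub (Finset.finite_toSet _)
  rw [Set.ncard_image_of_injective _ WNine.toC_injective, Set.ncard_coe_finset] at h
  exact h.trans (List.toFinset_card_le _)

/-! ### Maximal subgroups -/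

/-- The basic elements. -/
def bas (k : ℕ) : WNine := WNine.ofC (2 ^ k)

/-- A coordinate power. -/
def cpow (b : Bool) (x : WNine) : WNine := cond b x 1

/-- The product of the first four coordinate powers. -/
def lowPart (x : WNine) : WNine :=
  cpow x.p12 (bas 0) * cpow x.p23 (bas 1) * cpow x.p34 (bas 2) * cpow x.p45 (bas 3)

theorem low_facts : ∀ a b c d e f g h i : Bool,
    ((lowPart ⟨a, b, c, d, e, f, g, h, i⟩)⁻¹ * (⟨a, b, c, d, e, f, g, h, i⟩ : WNine)).toC % 16 = 0 := by
  decide +kernel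

theorem high_facts : ∀ a b c d e : Bool, (⟨false, false, false, false, a, b, c, d, e⟩ : WNine) =
    cpow a (WNine.ofC 3 * WNine.ofC 3) * cpow b (WNine.ofC 6 * WNine.ofC 6) *
      cpow c (WNine.ofC 12 * WNine.ofC 12) * cpow d (WNine.ofC 20 * WNine.ofC 20) *
      cpow e (WNine.ofC 40 * WNine.ofC 40) := by decide +kernel

theorem toC_mod : ∀ a b c d e f g h i : Bool,
    (⟨a, b, c, d, e, f, g, h, i⟩ : WNine).toC % 16 = 0 → a = false ∧ b = false ∧ c = false ∧ d = false := by
  decide +kernel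

theorem center_maximal_le (M : Subgroup WNine) (hM : IsCoatom M) :
    Nat.card (Subgroup.center M) ≤ 8 := by
  classical
  have : Group.IsNilpotent WNine := WNine.isPGroup.isNilpotent
  have hn : M.Normal := Subgroup.NormalizerCondition.normal_of_coatom M
    Group.normalizerCondition_of_isNilpotent hM
  -- the complement of `M` is a single coset
  have hxy : ∀ x y : WNine, x ∉ M → y ∉ M → x * y ∈ M := by
    obtain ⟨u, hu, huu⟩ : ∃ u : WNine, u ∉ M ∧ u * u ∈ M := by
      obtain ⟨w, hw⟩ : ∃ w, w ∉ M := by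
        by_contra h
        push Not at h
        exact hM.1 (eq_top_iff.mpr fun x _ => h x)
      obtain ⟨k, hk⟩ := WNine.isPGroup w
      have hex : ∃ j, w ^ 2 ^ j ∈ M := ⟨k, by rw [hk]; exact M.one_mem⟩
      have h0 : Nat.find hex ≠ 0 := fun h => hw (by
        have := Nat.find_spec hex
        rwa [h, pow_zero, pow_one] at this)
      obtain ⟨j, hj⟩ := Nat.exists_eq_succ_of_ne_zero h0
      refine ⟨w ^ 2 ^ j, Nat.find_min hex (by omega), ?_⟩
      have := Nat.find_spec hex
      rw [hj, pow_succ, pow_mul, pow_two] at this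
      exact this
    have hsup : M ⊔ Subgroup.zpowers u = ⊤ := hM.2 _ (lt_of_le_of_ne le_sup_left fun h => hu (by
      rw [h]; exact Subgroup.mem_sup_right (Subgroup.mem_zpowers u)))
    have hdec : ∀ x : WNine, x ∉ M → ∃ m ∈ M, x = m * u := by
      intro x hx
      have hx' : x ∈ M ⊔ Subgroup.zpowers u := by rw [hsup]; trivial
      rw [Subgroup.mem_sup_of_normal_left] at hx'
      obtain ⟨m, hm, _, ⟨i, rfl⟩, rfl⟩ := hx'
      rcases Int.even_or_odd' i with ⟨j, rfl | rfl⟩
      · refine absurd (M.mul_mem hm ?_) hx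
        change u ^ (2 * j) ∈ M
        rw [zpow_mul, zpow_two]
        exact M.zpow_mem huu j
      · refine ⟨m * u ^ (2 * j), M.mul_mem hm ?_, ?_⟩
        · rw [zpow_mul, zpow_two]
          exact M.zpow_mem huu j
        · change m * u ^ (2 * j + 1) = _
          rw [zpow_add_one, mul_assoc]
    intro x y hx hy
    obtain ⟨m, hm, rfl⟩ := hdec x hx
    obtain ⟨m', hm', rfl⟩ := hdec y hy
    rw [show m * u * (m' * u) = m * (u * m' * u⁻¹) * (u * u) by group]
    exact M.mul_mem (M.mul_mem hm (hn.conj_mem m' hm' u)) huu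
  let χ : WNine → Bool := fun x => decide (x ∉ M)
  have hχ : ∀ x y, χ (x * y) = (χ x ^^ χ y) := by
    intro x y
    simp only [χ]
    by_cases hx : x ∈ M <;> by_cases hy : y ∈ M
    · simp [hx, hy, M.mul_mem hx hy]
    · simp [hx, hy, M.mul_mem_cancel_left hx]
    · simp [hx, hy, M.mul_mem_cancel_right hy]
    · simp [hx, hy, hxy x y hx hy]
  have hχc : ∀ b x, χ (cpow b x) = (b && χ x) := by
    intro b x
    cases b <;> simp [cpow, χ, M.one_mem]
  have hsq : ∀ x : WNine, χ (x * x) = false := fun x => by rw [hχ, Bool.xor_self]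
  set c := cond (χ (bas 0)) 1 0 + cond (χ (bas 1)) 2 0 + cond (χ (bas 2)) 4 0 +
    cond (χ (bas 3)) 8 0 with hcdef
  have hc : c < 16 ∧ c.testBit 0 = χ (bas 0) ∧ c.testBit 1 = χ (bas 1) ∧
      c.testBit 2 = χ (bas 2) ∧ c.testBit 3 = χ (bas 3) := by
    rw [hcdef]
    cases χ (bas 0) <;> cases χ (bas 1) <;> cases χ (bas 2) <;> cases χ (bas 3) <;> decide
  have hval : ∀ x : WNine, χ x = !inMB c x.toC := by
    intro x
    obtain ⟨a, b, c', d, e, f, g, h, i⟩ := x
    have e1 : χ (⟨a, b, c', d, e, f, g, h, i⟩ : WNine) = χ (lowPart ⟨a, b, c', d, e, f, g, h, i⟩) := by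
      set X : WNine := ⟨a, b, c', d, e, f, g, h, i⟩
      have h0 := low_facts a b c' d e f g h i
      have hh : χ ((lowPart X)⁻¹ * X) = false := by
        revert h0
        generalize (lowPart X)⁻¹ * X = Y
        obtain ⟨a', b', c'', d', e', f', g', h', i'⟩ := Y
        intro h0
        obtain ⟨rfl, rfl, rfl, rfl⟩ := toC_mod _ _ _ _ _ _ _ _ _ h0
        rw [high_facts, hχ, hχ, hχ, hχ, hχc, hχc, hχc, hχc, hχc, hsq, hsq, hsq, hsq, hsq]
        simp
      rw [hχ] at hh
      have hinv : χ (lowPart X)⁻¹ = χ (lowPart X) := by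
        simp [χ, M.inv_mem_iff]
      rw [hinv] at hh
      revert hh
      cases χ (lowPart X) <;> cases χ X <;> simp
    rw [e1, lowPart, hχ, hχ, hχ, hχc, hχc, hχc, hχc]
    have hb : ∀ a b c' d e f g h i : Bool,
        (⟨a, b, c', d, e, f, g, h, i⟩ : WNine).toC.testBit 0 = a ∧
        (⟨a, b, c', d, e, f, g, h, i⟩ : WNine).toC.testBit 1 = b ∧
        (⟨a, b, c', d, e, f, g, h, i⟩ : WNine).toC.testBit 2 = c' ∧
        (⟨a, b, c', d, e, f, g, h, i⟩ : WNine).toC.testBit 3 = d := by decide +kernel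
    obtain ⟨t0, t1, t2, t3⟩ := hb a b c' d e f g h i
    rw [inMB, Bool.not_not, t0, t1, t2, t3, hc.2.1, hc.2.2.1, hc.2.2.2.1, hc.2.2.2.2]
    simp [Bool.and_comm]
  have hiff : ∀ x : WNine, x ∈ M ↔ inMB c x.toC = true := by
    intro x
    have := hval x
    simp only [χ] at this
    rw [Bool.eq_iff_iff, decide_eq_true_iff, Bool.not_eq_true', ← Bool.not_eq_true] at this
    exact not_iff_not.mp this
  have hc0 : c ≠ 0 := by
    intro h
    refine hM.1 (eq_top_iff.mpr fun x _ => ?_)
    rw [hiff, h]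
    simp [inMB]
  have hsmall := List.all_eq_true.mp zList_small c (List.mem_range.mpr hc.1)
  simp only [Bool.or_eq_true, Nat.beq_eq, hc0, false_or, Nat.ble_eq] at hsmall
  refine le_trans ?_ hsmall
  rw [← Subgroup.card_map_of_injective (f := M.subtype) M.subtype_injective]
  refine card_le_length (((Subgroup.center M).map M.subtype : Subgroup WNine) : Set WNine) ?_
  rintro _ ⟨⟨x, hx⟩, hxc, rfl⟩
  simp only [Bool.and_eq_true, List.all_eq_true]
  refine ⟨(hiff x).mp hx, fun n hn => ?_⟩
  rw [uList, List.mem_filter] at hn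
  have hn512 : n < 512 := by
    rcases List.mem_append.mp hn.1 with h | h
    · exact (List.mem_range.mp h).trans (by norm_num)
    · simp only [List.mem_cons, List.not_mem_nil, or_false] at h
      omega
  have hto : (WNine.ofC n).toC = n := by
    have hall : ∀ n : Fin 512, (WNine.ofC n).toC = n.val := by decide +kernel
    exact hall ⟨n, hn512⟩
  have hnM : WNine.ofC n ∈ M := by rw [hiff, hto]; exact hn.2
  rw [← hto]
  exact (comB_iff _ _).mpr
    (congrArg Subtype.val (Subgroup.mem_center_iff.mp hxc ⟨_, hnM⟩)).symm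

/-! ### The large abelian subgroup -/

/-- The large abelian subgroup. -/
def bigA : Subgroup WNine where
  carrier := {x | x.p23 = false ∧ x.p34 = false ∧ x.p24 = false}
  one_mem' := ⟨rfl, rfl, rfl⟩
  mul_mem' {x y} hx hy := by
    obtain ⟨a1, a2, a3⟩ := hx
    obtain ⟨b1, b2, b3⟩ := hy
    change (x.p23 ^^ y.p23) = false ∧ (x.p34 ^^ y.p34) = false ∧
      (x.p24 ^^ y.p24 ^^ (x.p23 && y.p34)) = false
    simp [a1, a2, a3, b1, b2, b3]
  inv_mem' {x} hx := by
    obtain ⟨a1, a2, a3⟩ := hx
    change WNine.p23i x = false ∧ WNine.p34i x = false ∧ WNine.p24i x = false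
    simp [WNine.p23i, WNine.p34i, WNine.p24i, a1, a2, a3]

theorem isAB_iff (x : WNine) : isAB x.toC = true ↔ x ∈ bigA := by
  obtain ⟨a, b, c, d, e, f, g, h, i⟩ := x
  change _ ↔ b = false ∧ c = false ∧ f = false
  revert a b c d e f g h i
  decide +kernel

theorem bigA_elementary : IsElementaryAbelian 2 bigA ∧ Nat.card bigA = 64 := by
  have hab := isA_abelian
  simp only [List.all_eq_true, Bool.and_eq_true, List.mem_filter, List.mem_range] at hab
  refine ⟨⟨⟨⟨fun x y => Subtype.ext ?_⟩⟩, fun x hx => ?_⟩, ?_⟩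
  · exact (comB_iff _ _).mp ((hab _ ⟨x.1.toC_lt, (isAB_iff _).mpr x.2⟩).2 _
      ⟨y.1.toC_lt, (isAB_iff _).mpr y.2⟩)
  · have h := (hab _ ⟨x.toC_lt, (isAB_iff _).mpr hx⟩).1
    rw [Nat.beq_eq, WNine.ofC_toC] at h
    rw [pow_two]
    exact WNine.toC_injective h
  · refine le_antisymm ((card_le_length (bigA : Set WNine) fun x hx => (isAB_iff x).mpr hx).trans
      (le_of_eq isA_card)) ?_
    have hinj : ∀ a b c d e f a' b' c' d' e' f' : Bool,
        (⟨a, false, false, b, c, false, d, e, f⟩ : WNine) = ⟨a', false, false, b', c', false, d', e', f'⟩ →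
        (a, b, c, d, e, f) = (a', b', c', d', e', f') := by
      intro a b c d e f a' b' c' d' e' f' h
      simp only [WNine.mk.injEq] at h
      simp [h]
    refine le_trans ?_ (Nat.card_le_card_of_injective
      (fun v : Bool × Bool × Bool × Bool × Bool × Bool =>
        (⟨⟨v.1, false, false, v.2.1, v.2.2.1, false, v.2.2.2.1, v.2.2.2.2.1, v.2.2.2.2.2⟩,
          rfl, rfl, rfl⟩ : bigA))
      fun v w h => hinj _ _ _ _ _ _ _ _ _ _ _ _ (congrArg Subtype.val h))
    simp [Nat.card_eq_fintype_card]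

/-- The representative of the coset of the large abelian subgroup. -/
def repr3 (x : WNine) : WNine := ⟨false, x.p23, x.p34, false, false, x.p24, false, false, false⟩

theorem repr3_mem (x : WNine) : x * (repr3 x)⁻¹ ∈ bigA := by
  obtain ⟨a, b, c, d, e, f, g, h, i⟩ := x
  rw [← isAB_iff]
  revert a b c d e f g h i
  decide +kernel

theorem repr3_mul_left {a : WNine} (ha : a ∈ bigA) (x : WNine) : repr3 (a * x) = repr3 x := by
  obtain ⟨a1, a2, a3⟩ := ha
  change WNine.mk false (a.p23 ^^ x.p23) (a.p34 ^^ x.p34) false false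
    (a.p24 ^^ x.p24 ^^ (a.p23 && x.p34)) false false false = _
  simp [a1, a2, a3, repr3]

theorem repr3_code : ∀ b c f : Bool, (b = false ∧ c = false ∧ f = false) ∨
    (⟨false, b, c, false, false, f, false, false, false⟩ : WNine).toC ∈ repList := by decide +kernel

theorem eq_bigA (B : Subgroup WNine) (hB : IsMulCommutative B) (hB64 : Nat.card B = 64) :
    B = bigA := by
  classical
  have hcomm : ∀ x ∈ B, ∀ y ∈ B, x * y = y * x := fun x hx y hy =>
    congrArg Subtype.val (hB.is_comm.comm ⟨x, hx⟩ ⟨y, hy⟩)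
  set K := B ⊓ bigA with hK
  let R : Set WNine := repr3 '' (B : Set WNine)
  -- counting
  have hle : Nat.card B ≤ Nat.card K * Nat.card R := by
    let g : R → WNine := fun r => Classical.choose r.2
    have hg : ∀ r : R, g r ∈ B ∧ repr3 (g r) = r.1 := fun r => Classical.choose_spec r.2
    rw [← Nat.card_prod]
    refine Nat.card_le_card_of_injective (fun x : B =>
      ((⟨x.1 * (g ⟨repr3 x.1, x.1, x.2, rfl⟩)⁻¹,
        B.mul_mem x.2 (B.inv_mem (hg _).1), by
          have h1 := repr3_mem x.1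
          have h2 := repr3_mem (g ⟨repr3 x.1, x.1, x.2, rfl⟩)
          rw [(hg _).2] at h2
          have := bigA.mul_mem h1 (bigA.inv_mem h2)
          simpa [mul_assoc] using this⟩ : K), (⟨repr3 x.1, x.1, x.2, rfl⟩ : R))) ?_
    intro x y h
    simp only [Prod.mk.injEq, Subtype.mk.injEq] at h
    obtain ⟨h1, h2⟩ := h
    have h2' : repr3 x.1 = repr3 y.1 := congrArg Subtype.val h2
    have e : (⟨repr3 x.1, x.1, x.2, rfl⟩ : R) = ⟨repr3 y.1, y.1, y.2, rfl⟩ := Subtype.ext h2'
    exact Subtype.ext (mul_right_cancel ((congrArg Subtype.val h1).trans (congrArg (fun r => y.1 * (g r)⁻¹) e).symm))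
  have hcode : ∀ r ∈ R, r ≠ 1 → r.toC ∈ repList := by
    rintro _ ⟨x, -, rfl⟩ hne
    rcases repr3_code x.p23 x.p34 x.p24 with ⟨h1, h2, h3⟩ | h
    · exact absurd (show repr3 x = 1 by rw [repr3, h1, h2, h3]; rfl) hne
    · exact h
  have hKfix : ∀ k ∈ K, ∀ r ∈ R, k * r = r * k := by
    rintro k hk _ ⟨x, hx, rfl⟩
    have hk' := Subgroup.mem_inf.mp hk
    obtain ⟨a, ha, e⟩ : ∃ a ∈ bigA, a * repr3 x = x := ⟨_, repr3_mem x, inv_mul_cancel_right _ _⟩
    have hka : k * a = a * k := by
      have := bigA_elementary.1.1.is_comm.comm ⟨k, hk'.2⟩ ⟨a, ha⟩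
      exact congrArg Subtype.val this
    have hkx := hcomm k hk'.1 x hx
    refine mul_left_cancel (a := a) ?_
    rw [← mul_assoc, ← hka, mul_assoc, e, hkx, ← mul_assoc, e]
  have hcomR : ∀ r ∈ R, ∀ s ∈ R, comModB r.toC s.toC = true := by
    rintro _ ⟨x, hx, rfl⟩ _ ⟨y, hy, rfl⟩
    have key : ∀ x y : WNine, repr3 (x * y) = repr3 (repr3 x * repr3 y) := by
      intro x y
      simp [repr3, HMul.hMul, Mul.mul]
    have h := key x y
    rw [hcomm x hx y hy, key y x] at h
    have hbit : ∀ a b c d e f g h' i : Bool,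
        (⟨a, b, c, d, e, f, g, h', i⟩ : WNine).toC.testBit 1 = b ∧
        (⟨a, b, c, d, e, f, g, h', i⟩ : WNine).toC.testBit 2 = c ∧
        (⟨a, b, c, d, e, f, g, h', i⟩ : WNine).toC.testBit 5 = f := by decide +kernel
    have e := And.intro (congrArg WNine.p23 h) (And.intro (congrArg WNine.p34 h) (congrArg WNine.p24 h))
    simp only [comModB, WNine.ofC_toC]
    have hbit' : ∀ w : WNine, w.toC.testBit 1 = w.p23 ∧ w.toC.testBit 2 = w.p34 ∧
        w.toC.testBit 5 = w.p24 := fun w => hbit ..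
    obtain ⟨s1, s2, s3⟩ := hbit' (repr3 x * repr3 y)
    obtain ⟨u1, u2, u3⟩ := hbit' (repr3 y * repr3 x)
    rw [s1, s2, s3, u1, u2, u3]
    simp only [Bool.and_eq_true, beq_iff_eq]
    exact ⟨⟨e.1.symm, e.2.1.symm⟩, e.2.2.symm⟩
  have hfix : ∀ r ∈ R, ∀ s ∈ R, r ≠ 1 → s ≠ 1 → Nat.card K ≤ cond (Nat.beq r.toC s.toC) 16 8 := by
    intro r hr s hs hr1 hs1
    have h := List.all_eq_true.mp (List.all_eq_true.mp fixList_small _ (hcode r hr hr1)) _
      (hcode s hs hs1)
    simp only [hcomR r hr s hs, Bool.not_true, Bool.false_or, Nat.ble_eq] at h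
    rw [fixList] at h
    refine le_trans (card_le_length (p := fun n => isAB n && comB n r.toC && comB n s.toC)
      (K : Set WNine) fun k hk => ?_) h
    simp only [Bool.and_eq_true]
    exact ⟨⟨(isAB_iff k).mpr (Subgroup.mem_inf.mp hk).2, (comB_iff _ _).mpr (hKfix k hk r hr)⟩,
      (comB_iff _ _).mpr (hKfix k hk s hs)⟩
  have hR8 : Nat.card R ≤ 8 := by
    refine le_trans (Nat.card_le_card_of_injective
      (fun r : R => ((r.1.p23, r.1.p34, r.1.p24) : Bool × Bool × Bool)) ?_)
      (by simp [Nat.card_eq_fintype_card])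
    rintro ⟨_, x, hx, rfl⟩ ⟨_, y, hy, rfl⟩ h
    simp only [Prod.mk.injEq, repr3] at h
    exact Subtype.ext (by simp [repr3, h.1, h.2.1, h.2.2])
  by_contra hne
  have hnle : ¬ B ≤ bigA := fun h =>
    hne (Subgroup.eq_of_le_of_card_ge h (by rw [bigA_elementary.2, hB64]))
  obtain ⟨b, hb, hbA⟩ := SetLike.not_le_iff_exists.mp hnle
  have hb1 : repr3 b ≠ 1 := fun h => hbA (by
    have := repr3_mem b
    rwa [h, inv_one, mul_one] at this)
  have hbR : repr3 b ∈ R := ⟨b, hb, rfl⟩
  have hK16 : Nat.card K ≤ 16 := by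
    have := hfix _ hbR _ hbR hb1 hb1
    rwa [Nat.beq_refl] at this
  -- a second nontrivial image
  obtain ⟨s, hs, hs1, hsb⟩ : ∃ s ∈ R, s ≠ 1 ∧ s ≠ repr3 b := by
    by_contra h
    push Not at h
    have hsub : R ⊆ {1, repr3 b} := fun s hs => by
      by_cases h1 : s = 1
      · exact Or.inl h1
      · exact Or.inr (h s hs h1)
    have h2 : Nat.card R ≤ 2 := by
      rw [Nat.card_coe_set_eq]
      exact (Set.ncard_le_ncard hsub).trans (by
        rw [Set.ncard_pair (Ne.symm hb1)])
    have := Nat.mul_le_mul hK16 h2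
    omega
  have hK8 : Nat.card K ≤ 8 := by
    have := hfix _ hbR _ hs hb1 hs1
    rwa [show Nat.beq (repr3 b).toC s.toC = false from Bool.eq_false_iff.mpr fun h =>
      hsb (WNine.toC_injective (Nat.eq_of_beq_eq_true h)).symm] at this
  -- so every image occurs, but two of them do not commute
  have hall : ∀ q c f : Bool, (⟨false, q, c, false, false, f, false, false, false⟩ : WNine) ∈ R := by
    intro q c f
    by_contra hnot
    have hlt : Nat.card R < 8 := by
      have hr : R ⊆ Set.range (fun v : Bool × Bool × Bool =>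
          (⟨false, v.1, v.2.1, false, false, v.2.2, false, false, false⟩ : WNine)) \
          {⟨false, q, c, false, false, f, false, false, false⟩} := by
        rintro r hr
        obtain ⟨x, hxB, hxr⟩ := hr
        exact ⟨⟨(x.p23, x.p34, x.p24), hxr⟩, fun h => hnot (by
          rw [← Set.mem_singleton_iff.mp h]; exact ⟨x, hxB, hxr⟩)⟩
      rw [Nat.card_coe_set_eq]
      refine (Set.ncard_le_ncard hr).trans_lt ?_
      refine (Set.ncard_sdiff_singleton_lt_of_mem (Set.mem_range_self (q, c, f))).trans_le ?_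
      rw [← Nat.card_coe_set_eq]
      exact (Finite.card_range_le _).trans (by simp [Nat.card_eq_fintype_card])
    have := Nat.mul_le_mul hK8 (Nat.le_of_lt_succ hlt : Nat.card R ≤ 7)
    omega
  have h := hcomR _ (hall true false false) _ (hall false true false)
  have e2 : (⟨false, true, false, false, false, false, false, false, false⟩ : WNine).toC = 2 := rfl
  have e4 : (⟨false, false, true, false, false, false, false, false, false⟩ : WNine).toC = 4 := rfl
  rw [e2, e4, e23_e34_not_com] at h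
  exact Bool.false_ne_true h

/-! ### The image in the permutations -/

/-- The homomorphism to permutations, as a function. -/
noncomputable def psi (x : UTen) : Equiv.Perm GolayPt := rep24.den (psiC x.toC)

theorem psiC_ok (n : ℕ) : rep24.Ok (psiC n) ∧ rep24.den (psiC n) ∈ M24 := by
  have h := roots_checks
  simp only [List.all_eq_true] at h
  have key : ∀ l : List (ℕ × ℕ), (∀ p ∈ l, inM24B p.2 = true) →
      rep24.Ok (List.rec (motive := fun _ => ℕ) rep24.one
        (fun p _ r => cond (n.testBit p.1) (rep24.mul p.2 r) r) l) ∧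
      rep24.den (List.rec (motive := fun _ => ℕ) rep24.one
        (fun p _ r => cond (n.testBit p.1) (rep24.mul p.2 r) r) l) ∈ M24 := by
    intro l
    induction l with
    | nil => exact fun _ => ⟨rep24.ok_one, by rw [rep24.den_one]; exact M24.one_mem⟩
    | cons p l ih =>
      intro hl
      obtain ⟨i1, i2⟩ := ih fun q hq => hl q (List.mem_cons_of_mem _ hq)
      obtain ⟨p1, p2⟩ := mem_M24_of_check (hl p (List.mem_cons_self ..))
      change rep24.Ok (cond (n.testBit p.1) _ _) ∧ rep24.den (cond (n.testBit p.1) _ _) ∈ M24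
      cases n.testBit p.1
      · exact ⟨i1, i2⟩
      · exact ⟨rep24.ok_mul _ _ p1 i1, by
          rw [cond_true, rep24.den_mul _ _ p1 i1]; exact M24.mul_mem p2 i2⟩
  exact key rootImgs h

/-- The root elements. -/
def uBas (k : ℕ) : UTen := UTen.ofC (2 ^ k)

/-- A coordinate power. -/
def uPow (b : Bool) (x : UTen) : UTen := cond b x 1

theorem uTen_generated : ∀ a b c d e f g h i j : Bool,
    (⟨a, b, c, d, e, f, g, h, i, j⟩ : UTen) =
      uPow d (uBas 3) * uPow c (uBas 2) * uPow g (uBas 2 * uBas 3 * (uBas 2 * uBas 3)) *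
      uPow b (uBas 1) * uPow f (uBas 1 * uBas 2 * (uBas 1 * uBas 2)) *
      uPow i (uBas 1 * (uBas 2 * uBas 3 * (uBas 2 * uBas 3)) * (uBas 1 * (uBas 2 * uBas 3 * (uBas 2 * uBas 3)))) *
      uPow a (uBas 0) * uPow e (uBas 0 * uBas 1 * (uBas 0 * uBas 1)) *
      uPow h (uBas 0 * (uBas 1 * uBas 2 * (uBas 1 * uBas 2)) * (uBas 0 * (uBas 1 * uBas 2 * (uBas 1 * uBas 2)))) *
      uPow j ((uBas 0 * (uBas 1 * uBas 2 * (uBas 1 * uBas 2)) * (uBas 0 * (uBas 1 * uBas 2 * (uBas 1 * uBas 2)))) * uBas 3 *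
        ((uBas 0 * (uBas 1 * uBas 2 * (uBas 1 * uBas 2)) * (uBas 0 * (uBas 1 * uBas 2 * (uBas 1 * uBas 2)))) * uBas 3)) := by
  decide +kernel

theorem psi_mul (x y : UTen) : psi (x * y) = psi x * psi y := by
  let A : Submonoid UTen :=
    { carrier := {x | ∀ y, psi (x * y) = psi x * psi y}
      one_mem' := fun y => by
        have h1 : psi 1 = 1 := by
          rw [psi, show (1 : UTen).toC = 0 from rfl, psiC_zero, rep24.den_one]
        rw [one_mul, h1, one_mul]
      mul_mem' := fun {a b} ha hb y => by rw [mul_assoc, ha, hb, ha, mul_assoc] }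
  have hg : ∀ k < 4, uBas k ∈ A := by
    intro k hk z
    have h := allBelow_eq_true.mp (allBelow_eq_true.mp psiC_hom z.toC z.toC_lt) k hk
    rw [Nat.beq_eq, UTen.ofC_toC] at h
    have hb : (uBas k).toC = 2 ^ k := by
      have hall : ∀ k : Fin 4, (uBas k).toC = 2 ^ k.val := by decide +kernel
      exact hall ⟨k, hk⟩
    rw [psi, psi, psi, hb, ← rep24.den_mul _ _ (psiC_ok _).1 (psiC_ok _).1, h]
    rfl
  suffices hx : x ∈ A from hx y
  obtain ⟨a, b, c, d, e, f, g, h, i, j⟩ := x
  rw [uTen_generated]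
  have h0 := hg 0 (by norm_num)
  have h1 := hg 1 (by norm_num)
  have h2 := hg 2 (by norm_num)
  have h3 := hg 3 (by norm_num)
  have hp : ∀ (t : Bool) {u : UTen}, u ∈ A → uPow t u ∈ A := by
    intro t u hu
    cases t
    · exact A.one_mem
    · exact hu
  have m := @Submonoid.mul_mem _ _ A
  exact m (m (m (m (m (m (m (m (m (hp _ h3) (hp _ h2)) (hp _ (m (m h2 h3) (m h2 h3)))) (hp _ h1))
    (hp _ (m (m h1 h2) (m h1 h2)))) (hp _ (m (m h1 (m (m h2 h3) (m h2 h3)))
      (m h1 (m (m h2 h3) (m h2 h3)))))) (hp _ h0)) (hp _ (m (m h0 h1) (m h0 h1))))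
    (hp _ (m (m h0 (m (m h1 h2) (m h1 h2))) (m h0 (m (m h1 h2) (m h1 h2))))))
    (hp _ (m (m (m (m h0 (m (m h1 h2) (m h1 h2))) (m h0 (m (m h1 h2) (m h1 h2)))) h3)
      (m (m (m h0 (m (m h1 h2) (m h1 h2))) (m h0 (m (m h1 h2) (m h1 h2)))) h3)))

/-- The homomorphism to permutations. -/
noncomputable def psiHom : UTen →* Equiv.Perm GolayPt := MonoidHom.mk' psi psi_mul

theorem psiHom_injective : Function.Injective psiHom := by
  rw [injective_iff_map_eq_one]
  intro x hx
  by_contra hne
  have h := allBelow_eq_true.mp psiC_inj x.toC x.toC_lt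
  rw [Bool.or_eq_true, Nat.beq_eq] at h
  rcases h with h | h
  · exact hne (UTen.toC_injective h)
  · rw [Bool.not_eq_true', ← Bool.not_eq_true, allBelow_eq_true] at h
    refine h fun i hi => ?_
    rw [Nat.beq_eq]
    have h1 := rep24.act_spec (psiC x.toC) i (psiC_ok _).1 hi
    rw [show rep24.den (psiC x.toC) = 1 from hx, one_smul] at h1
    exact (rep24.pt_inj _ _ hi (rep24.act_lt _ i (psiC_ok _).1 hi) h1).symm

theorem uTen_ofC_code : ∀ n : Fin 1024, (UTen.ofC n).toC = n.val := by decide +kernel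

theorem card_uTen : Nat.card UTen = 2 ^ 10 := by
  rw [Nat.card_congr (Equiv.ofBijective (fun x : UTen => (⟨x.toC, x.toC_lt⟩ : Fin 1024))
    ⟨fun x y h => UTen.toC_injective (congrArg Fin.val h),
      fun n => ⟨UTen.ofC n, Fin.ext (uTen_ofC_code n)⟩⟩), Nat.card_fin]
  norm_num

theorem forget_ker : forget.ker = Subgroup.center UTen := by
  ext x
  rw [Subgroup.mem_center_iff, MonoidHom.mem_ker]
  constructor
  · intro h y
    obtain ⟨a, b, c, d, e, f, g, h', i, j⟩ := x
    simp only [forget, MonoidHom.coe_mk, OneHom.coe_mk, OfNat.ofNat, One.one, WNine.mk.injEq] at h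
    obtain ⟨rfl, rfl, rfl, rfl, rfl, rfl, rfl, rfl, rfl⟩ := h
    ext <;> simp [HMul.hMul, Mul.mul, Bool.xor_comm]
  · intro h
    have h1 := allBelow_eq_true.mp center_ten x.toC x.toC_lt
    rw [Bool.or_eq_true, Nat.beq_eq] at h1
    rcases h1 with h1 | h1
    · obtain ⟨a, b, c, d, e, f, g, h', i, j⟩ := x
      clear h
      revert a b c d e f g h' i j
      decide +kernel
    · exfalso
      rw [Bool.not_eq_true', ← Bool.not_eq_true, allBelow_eq_true] at h1
      refine h1 fun k hk => ?_
      rw [Nat.beq_eq, UTen.ofC_toC]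
      exact congrArg UTen.toC (h _).symm

/-- The Sylow subgroup modulo its centre is the nine-coordinate group. -/
theorem exists_equiv (P : Sylow 2 ↥M24) :
    Nonempty (((P : Subgroup ↥M24) : Type) ⧸ Subgroup.center ↥(P : Subgroup ↥M24) ≃* WNine) := by
  have := Fact.mk Nat.prime_two
  have hle : psiHom.range ≤ M24 := by
    intro z hz
    obtain ⟨x, rfl⟩ := MonoidHom.mem_range.mp hz
    exact (psiC_ok x.toC).2
  have hcard : Nat.card psiHom.range = 2 ^ 10 := by
    rw [← Nat.card_congr (MonoidHom.ofInjective psiHom_injective).toEquiv, card_uTen]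
  obtain ⟨k, hk, hkP⟩ := exists_conj_sylow (p := 2) (v := 10) hle hcard (by decide) P.2
  let f : ↥(P : Subgroup ↥M24) →* psiHom.range :=
    { toFun := fun a => ⟨k * ((a : ↥M24) : Equiv.Perm GolayPt) * k⁻¹, hkP a a.2⟩
      map_one' := Subtype.ext (by simp)
      map_mul' := fun a b => Subtype.ext (by
        change k * (((a : ↥M24) : Equiv.Perm GolayPt) * (b : ↥M24)) * k⁻¹ = _
        simp [mul_assoc]) }
  have hf : Function.Injective f := fun a b hab =>
    Subtype.ext (Subtype.ext (mul_left_cancel (mul_right_cancel (congrArg Subtype.val hab))))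
  have hP : Nat.card ↥(P : Subgroup ↥M24) = 2 ^ 10 := by
    refine le_antisymm ((Nat.card_le_card_of_injective f hf).trans (le_of_eq hcard)) ?_
    rw [P.card_eq_multiplicity]
    refine Nat.pow_le_pow_right (by norm_num)
      ((Nat.prime_two.pow_dvd_iff_le_factorization Nat.card_pos.ne').mp ?_)
    rw [card_m24]
    norm_num
  have hbij : Function.Bijective f :=
    (Nat.bijective_iff_injective_and_card f).mpr ⟨hf, hP.trans hcard.symm⟩
  let e : ↥(P : Subgroup ↥M24) ≃* UTen :=
    (MulEquiv.ofBijective f hbij).trans (MonoidHom.ofInjective psiHom_injective).symm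
  have hsurj : Function.Surjective (forget.comp e.toMonoidHom) := by
    intro w
    refine ⟨e.symm ⟨w.p12, w.p23, w.p34, w.p45, w.p13, w.p24, w.p35, w.p14, w.p25, false⟩, ?_⟩
    simp [forget]
  have hker : Subgroup.center ↥(P : Subgroup ↥M24) = (forget.comp e.toMonoidHom).ker := by
    ext a
    rw [MonoidHom.mem_ker, MonoidHom.comp_apply]
    change _ ↔ e a ∈ forget.ker
    rw [forget_ker, Subgroup.mem_center_iff, Subgroup.mem_center_iff]
    constructor
    · intro h y
      obtain ⟨b, rfl⟩ := e.surjective y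
      rw [← map_mul, h b, map_mul]
    · intro h b
      exact e.injective (by rw [map_mul, map_mul, h (e b)])
  exact ⟨(QuotientGroup.quotientMulEquivOfEq hker).trans
    (QuotientGroup.quotientKerEquivOfSurjective _ hsurj)⟩

/-- The statements, for any group isomorphic to the nine-coordinate group. -/
theorem facts_of_equiv {S : Type*} [Group S] (e : S ≃* WNine) :
    (∀ M : Subgroup S, IsCoatom M → Nat.card (Subgroup.center M) ≤ 8) ∧
      (∃ A : Subgroup S, IsElementaryAbelian 2 A ∧ Nat.card A = 64) ∧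
      ∀ A B : Subgroup S, IsMulCommutative A → Nat.card A = 64 → IsMulCommutative B →
        Nat.card B = 64 → A = B := by
  have hmap : ∀ A : Subgroup S, Nat.card A = 64 → IsMulCommutative A →
      A.map e.toMonoidHom = bigA := by
    intro A hA hc
    refine eq_bigA _ ⟨⟨?_⟩⟩ (by rw [Subgroup.card_map_of_injective e.injective, hA])
    rintro ⟨_, x, hx, rfl⟩ ⟨_, y, hy, rfl⟩
    exact Subtype.ext (show e x * e y = e y * e x by
      rw [← map_mul, ← map_mul]
      exact congrArg e (congrArg Subtype.val (hc.is_comm.comm ⟨x, hx⟩ ⟨y, hy⟩)))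
  refine ⟨fun M hM => ?_, ⟨bigA.map e.symm.toMonoidHom, ⟨⟨⟨?_⟩⟩, ?_⟩, ?_⟩, ?_⟩
  · have hcoat : IsCoatom (e.mapSubgroup M) := (e.mapSubgroup.isCoatom_iff M).mpr hM
    refine le_trans (le_of_eq ?_) (center_maximal_le _ hcoat)
    exact Nat.card_congr (Subgroup.centerCongr (M.equivMapOfInjective e.toMonoidHom e.injective)).toEquiv
  · rintro ⟨_, x, hx, rfl⟩ ⟨_, y, hy, rfl⟩
    exact Subtype.ext (show e.symm x * e.symm y = e.symm y * e.symm x by
      rw [← map_mul, ← map_mul]
      exact congrArg e.symm (congrArg Subtype.val (bigA_elementary.1.1.is_comm.comm ⟨x, hx⟩ ⟨y, hy⟩)))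
  · rintro _ ⟨x, hx, rfl⟩
    change e.symm x ^ 2 = 1
    rw [← map_pow, bigA_elementary.1.2 x hx, map_one]
  · rw [Subgroup.card_map_of_injective e.symm.injective, bigA_elementary.2]
  · intro A B hA hA64 hB hB64
    exact Subgroup.map_injective e.injective ((hmap A hA64 hA).trans (hmap B hB64 hB).symm)

end Cfsg.Agent.SylQuot
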