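import Cfsg.Agent.SylQuot.Model
import Cfsg.Agent.Compute.GolayPerm

/-!
Finite checks on the unitriangular group, its quotient and its image among the permutations of
the Golay code.
-/

set_option autoImplicit false

namespace Cfsg.Agent.SylQuot

open Cfsg.Agent.Compute

/-- Membership in the maximal subgroup with parameter `c`. -/
def inMB (c n : ℕ) : Bool :=
  !((c.testBit 0 && n.testBit 0) ^^ (c.testBit 1 && n.testBit 1) ^^ (c.testBit 2 && n.testBit 2) ^^
    (c.testBit 3 && n.testBit 3))

/-- The codes commute. -/
def comB (n m : ℕ) : Bool :=
  Nat.beq (WNine.toC (WNine.ofC n * WNine.ofC m)) (WNine.toC (WNine.ofC m * WNine.ofC n))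

/-- Some elements of the maximal subgroup with parameter `c`. -/
def uList (c : ℕ) : List ℕ := (List.range 16 ++ [16, 32, 64, 128, 256]).filter (inMB c)

/-- A bound on the centre of the maximal subgroup with parameter `c`. -/
def zList (c : ℕ) : List ℕ :=
  (List.range 512).filter fun n => inMB c n && (uList c).all (comB n)

theorem zList_small : (List.range 16).all (fun c =>
    Nat.beq c 0 || Nat.ble (zList c).length 8) = true := by decide +kernel

/-- The element lies in the large abelian subgroup. -/
def isAB (n : ℕ) : Bool := !n.testBit 1 && !n.testBit 2 && !n.testBit 5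

/-- The codes of the complement of the large abelian subgroup. -/
def repList : List ℕ := [2, 4, 6, 32, 34, 36, 38]

/-- The images commute modulo the large abelian subgroup. -/
def comModB (r s : ℕ) : Bool :=
  let a := WNine.toC (WNine.ofC r * WNine.ofC s)
  let b := WNine.toC (WNine.ofC s * WNine.ofC r)
  (a.testBit 1 == b.testBit 1) && (a.testBit 2 == b.testBit 2) && (a.testBit 5 == b.testBit 5)

/-- The part of the large abelian subgroup centralised by two elements. -/
def fixList (r s : ℕ) : List ℕ :=
  (List.range 512).filter fun n => isAB n && comB n r && comB n s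

theorem fixList_small : repList.all (fun r => repList.all fun s =>
    !comModB r s || Nat.ble (fixList r s).length (cond (Nat.beq r s) 16 8)) = true := by
  decide +kernel

theorem e23_e34_not_com : comModB 2 4 = false := by decide +kernel

theorem isA_abelian : ((List.range 512).filter isAB).all (fun n =>
    Nat.beq (WNine.toC (WNine.ofC n * WNine.ofC n)) 0 &&
      ((List.range 512).filter isAB).all (comB n)) = true := by decide +kernel

theorem isA_card : ((List.range 512).filter isAB).length = 64 := by decide +kernel

/-- The images of the root elements, in the order of the product. -/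
def rootImgs : List (ℕ × ℕ) :=
  [(3, 0x1da957c850985ac59cc852404bc5c5), (2, 0x299b29d1d07c6ac4a9683dae410c01),
    (6, 0x72e959b4b07de4cb28c83a62408062), (1, 0x159f3a4072a850c5a92d398048ddc5),
    (5, 0x759b2850b345eac5a92f39a2400443), (8, 0x8da957b6e89964c5a930399c410c01),
    (0, 0xbc92655a2c3b9706cea47d0a818820), (4, 0xbb1f3a4232ab916218ed4a8ab18820),
    (7, 0xb99b28523343aaa4b16f258a718820), (9, 0xbae957b6289ba44b1cd0524ac18820)]

/-- The image of the element with code `n`. -/
noncomputable def psiC (n : ℕ) : ℕ :=
  List.rec (motive := fun _ => ℕ) rep24.one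
    (fun p _ r => cond (n.testBit p.1) (rep24.mul p.2 r) r) rootImgs

theorem roots_checks : rootImgs.all (fun p => inM24B p.2) = true := by decide +kernel

theorem psiC_hom : allBelow 1024 (fun n => allBelow 4 (fun k =>
    Nat.beq (rep24.mul (psiC (2 ^ k)) (psiC n))
      (psiC (UTen.toC (UTen.ofC (2 ^ k) * UTen.ofC n))))) = true := by decide +kernel

theorem psiC_inj : allBelow 1024 (fun n =>
    Nat.beq n 0 || !(allBelow 24 fun i => Nat.beq (rep24.act (psiC n) i) i)) = true := by
  decide +kernel

theorem psiC_zero : psiC 0 = rep24.one := by decide +kernel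

theorem center_ten : allBelow 1024 (fun n =>
    Nat.beq (n % 512) 0 || !(allBelow 4 fun k =>
      Nat.beq (UTen.toC (UTen.ofC n * UTen.ofC (2 ^ k)))
        (UTen.toC (UTen.ofC (2 ^ k) * UTen.ofC n)))) = true := by decide +kernel

end Cfsg.Agent.SylQuot
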