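import Mathlib.Algebra.Group.MinimalAxioms
import Mathlib.Tactic.Linarith
import Mathlib.Data.Fintype.Pi
import Mathlib.Data.Nat.Bitwise

/-!
The group of upper unitriangular 5 × 5 matrices over the field with two elements, and its quotient
by the centre.
-/

set_option autoImplicit false

namespace Cfsg.Agent.SylQuot

/-- A unitriangular matrix. -/
@[ext]
structure UTen where
  p12 : Bool
  p23 : Bool
  p34 : Bool
  p45 : Bool
  p13 : Bool
  p24 : Bool
  p35 : Bool
  p14 : Bool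
  p25 : Bool
  p15 : Bool
  deriving DecidableEq

namespace UTen

instance : Mul UTen := ⟨fun x y =>
  ⟨(x.p12 ^^ y.p12),
    (x.p23 ^^ y.p23),
    (x.p34 ^^ y.p34),
    (x.p45 ^^ y.p45),
    (x.p13 ^^ y.p13 ^^ (x.p12 && y.p23)),
    (x.p24 ^^ y.p24 ^^ (x.p23 && y.p34)),
    (x.p35 ^^ y.p35 ^^ (x.p34 && y.p45)),
    (x.p14 ^^ y.p14 ^^ (x.p12 && y.p24) ^^ (x.p13 && y.p34)),
    (x.p25 ^^ y.p25 ^^ (x.p23 && y.p35) ^^ (x.p24 && y.p45)),
    (x.p15 ^^ y.p15 ^^ (x.p12 && y.p25) ^^ (x.p13 && y.p35) ^^ (x.p14 && y.p45))⟩⟩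

instance : One UTen := ⟨⟨false, false, false, false, false, false, false, false, false, false⟩⟩

/-- A coordinate of the inverse. -/
def p12i (x : UTen) : Bool := x.p12

/-- A coordinate of the inverse. -/
def p23i (x : UTen) : Bool := x.p23

/-- A coordinate of the inverse. -/
def p34i (x : UTen) : Bool := x.p34

/-- A coordinate of the inverse. -/
def p45i (x : UTen) : Bool := x.p45

/-- A coordinate of the inverse. -/
def p13i (x : UTen) : Bool := x.p13 ^^ (p12i x && x.p23)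

/-- A coordinate of the inverse. -/
def p24i (x : UTen) : Bool := x.p24 ^^ (p23i x && x.p34)

/-- A coordinate of the inverse. -/
def p35i (x : UTen) : Bool := x.p35 ^^ (p34i x && x.p45)

/-- A coordinate of the inverse. -/
def p14i (x : UTen) : Bool := x.p14 ^^ (p12i x && x.p24) ^^ (p13i x && x.p34)

/-- A coordinate of the inverse. -/
def p25i (x : UTen) : Bool := x.p25 ^^ (p23i x && x.p35) ^^ (p24i x && x.p45)

/-- A coordinate of the inverse. -/
def p15i (x : UTen) : Bool := x.p15 ^^ (p12i x && x.p25) ^^ (p13i x && x.p35) ^^ (p14i x && x.p45)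

instance : Inv UTen := ⟨fun x => ⟨p12i x, p23i x, p34i x, p45i x, p13i x, p24i x, p35i x, p14i x, p25i x, p15i x⟩⟩

/-- The code of an element. -/
def toC (x : UTen) : ℕ :=
  cond x.p12 1 0 + cond x.p23 2 0 + cond x.p34 4 0 + cond x.p45 8 0 + cond x.p13 16 0 + cond x.p24 32 0 + cond x.p35 64 0 + cond x.p14 128 0 + cond x.p25 256 0 + cond x.p15 512 0

/-- The element with the given code. -/
def ofC (n : ℕ) : UTen :=
  ⟨n.testBit 0, n.testBit 1, n.testBit 2, n.testBit 3, n.testBit 4, n.testBit 5, n.testBit 6, n.testBit 7, n.testBit 8, n.testBit 9⟩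

theorem ofC_toC' : ∀ a0 a1 a2 a3 a4 a5 a6 a7 a8 a9 : Bool,
    ofC (toC ⟨a0, a1, a2, a3, a4, a5, a6, a7, a8, a9⟩) = ⟨a0, a1, a2, a3, a4, a5, a6, a7, a8, a9⟩ := by decide +kernel

theorem ofC_toC (x : UTen) : ofC (toC x) = x := ofC_toC' .. 

theorem toC_lt' : ∀ a0 a1 a2 a3 a4 a5 a6 a7 a8 a9 : Bool,
    toC ⟨a0, a1, a2, a3, a4, a5, a6, a7, a8, a9⟩ < 1024 := by decide +kernel

theorem toC_lt (x : UTen) : toC x < 1024 := toC_lt' ..

theorem toC_injective : Function.Injective toC := fun x y h => by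
  rw [← ofC_toC x, ← ofC_toC y, h]

set_option maxHeartbeats 3000000 in
theorem mul_assoc' (x y z : UTen) : x * y * z = x * (y * z) := by
  rcases x with ⟨x0, x1, x2, x3, x4, x5, x6, x7, x8, x9⟩
  rcases y with ⟨y0, y1, y2, y3, y4, y5, y6, y7, y8, y9⟩
  rcases z with ⟨z0, z1, z2, z3, z4, z5, z6, z7, z8, z9⟩
  change UTen.mk .. = UTen.mk ..
  simp [Bool.and_xor_distrib_left, Bool.and_xor_distrib_right, Bool.xor_assoc, Bool.and_assoc,
    Bool.xor_left_comm, Bool.xor_comm, HMul.hMul, Mul.mul]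

theorem one_mul' (x : UTen) : 1 * x = x := by
  ext <;> simp [HMul.hMul, Mul.mul, OfNat.ofNat, One.one]

theorem inv_mul' : ∀ a0 a1 a2 a3 a4 a5 a6 a7 a8 a9 : Bool,
    (⟨a0, a1, a2, a3, a4, a5, a6, a7, a8, a9⟩ : UTen)⁻¹ * ⟨a0, a1, a2, a3, a4, a5, a6, a7, a8, a9⟩ = 1 := by decide +kernel

instance : Group UTen :=
  Group.ofLeftAxioms mul_assoc' one_mul' fun x => inv_mul' ..

instance : Finite UTen := Finite.of_injective
  (fun x => (⟨toC x, toC_lt x⟩ : Fin 1024)) fun x y h => toC_injective (congrArg Fin.val h)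

end UTen

/-- A unitriangular matrix up to the corner entry. -/
@[ext]
structure WNine where
  p12 : Bool
  p23 : Bool
  p34 : Bool
  p45 : Bool
  p13 : Bool
  p24 : Bool
  p35 : Bool
  p14 : Bool
  p25 : Bool
  deriving DecidableEq

namespace WNine

instance : Mul WNine := ⟨fun x y =>
  ⟨(x.p12 ^^ y.p12),
    (x.p23 ^^ y.p23),
    (x.p34 ^^ y.p34),
    (x.p45 ^^ y.p45),
    (x.p13 ^^ y.p13 ^^ (x.p12 && y.p23)),
    (x.p24 ^^ y.p24 ^^ (x.p23 && y.p34)),
    (x.p35 ^^ y.p35 ^^ (x.p34 && y.p45)),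
    (x.p14 ^^ y.p14 ^^ (x.p12 && y.p24) ^^ (x.p13 && y.p34)),
    (x.p25 ^^ y.p25 ^^ (x.p23 && y.p35) ^^ (x.p24 && y.p45))⟩⟩

instance : One WNine := ⟨⟨false, false, false, false, false, false, false, false, false⟩⟩

/-- A coordinate of the inverse. -/
def p12i (x : WNine) : Bool := x.p12

/-- A coordinate of the inverse. -/
def p23i (x : WNine) : Bool := x.p23

/-- A coordinate of the inverse. -/
def p34i (x : WNine) : Bool := x.p34

/-- A coordinate of the inverse. -/
def p45i (x : WNine) : Bool := x.p45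

/-- A coordinate of the inverse. -/
def p13i (x : WNine) : Bool := x.p13 ^^ (p12i x && x.p23)

/-- A coordinate of the inverse. -/
def p24i (x : WNine) : Bool := x.p24 ^^ (p23i x && x.p34)

/-- A coordinate of the inverse. -/
def p35i (x : WNine) : Bool := x.p35 ^^ (p34i x && x.p45)

/-- A coordinate of the inverse. -/
def p14i (x : WNine) : Bool := x.p14 ^^ (p12i x && x.p24) ^^ (p13i x && x.p34)

/-- A coordinate of the inverse. -/
def p25i (x : WNine) : Bool := x.p25 ^^ (p23i x && x.p35) ^^ (p24i x && x.p45)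

instance : Inv WNine := ⟨fun x => ⟨p12i x, p23i x, p34i x, p45i x, p13i x, p24i x, p35i x, p14i x, p25i x⟩⟩

/-- The code of an element. -/
def toC (x : WNine) : ℕ :=
  cond x.p12 1 0 + cond x.p23 2 0 + cond x.p34 4 0 + cond x.p45 8 0 + cond x.p13 16 0 + cond x.p24 32 0 + cond x.p35 64 0 + cond x.p14 128 0 + cond x.p25 256 0

/-- The element with the given code. -/
def ofC (n : ℕ) : WNine :=
  ⟨n.testBit 0, n.testBit 1, n.testBit 2, n.testBit 3, n.testBit 4, n.testBit 5, n.testBit 6, n.testBit 7, n.testBit 8⟩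

theorem ofC_toC' : ∀ a0 a1 a2 a3 a4 a5 a6 a7 a8 : Bool,
    ofC (toC ⟨a0, a1, a2, a3, a4, a5, a6, a7, a8⟩) = ⟨a0, a1, a2, a3, a4, a5, a6, a7, a8⟩ := by decide +kernel

theorem ofC_toC (x : WNine) : ofC (toC x) = x := ofC_toC' .. 

theorem toC_lt' : ∀ a0 a1 a2 a3 a4 a5 a6 a7 a8 : Bool,
    toC ⟨a0, a1, a2, a3, a4, a5, a6, a7, a8⟩ < 512 := by decide +kernel

theorem toC_lt (x : WNine) : toC x < 512 := toC_lt' ..

theorem toC_injective : Function.Injective toC := fun x y h => by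
  rw [← ofC_toC x, ← ofC_toC y, h]

set_option maxHeartbeats 3000000 in
theorem mul_assoc' (x y z : WNine) : x * y * z = x * (y * z) := by
  rcases x with ⟨x0, x1, x2, x3, x4, x5, x6, x7, x8⟩
  rcases y with ⟨y0, y1, y2, y3, y4, y5, y6, y7, y8⟩
  rcases z with ⟨z0, z1, z2, z3, z4, z5, z6, z7, z8⟩
  change WNine.mk .. = WNine.mk ..
  simp [Bool.and_xor_distrib_left, Bool.and_xor_distrib_right, Bool.xor_assoc, Bool.and_assoc,
    Bool.xor_left_comm, Bool.xor_comm, HMul.hMul, Mul.mul]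

theorem one_mul' (x : WNine) : 1 * x = x := by
  ext <;> simp [HMul.hMul, Mul.mul, OfNat.ofNat, One.one]

theorem inv_mul' : ∀ a0 a1 a2 a3 a4 a5 a6 a7 a8 : Bool,
    (⟨a0, a1, a2, a3, a4, a5, a6, a7, a8⟩ : WNine)⁻¹ * ⟨a0, a1, a2, a3, a4, a5, a6, a7, a8⟩ = 1 := by decide +kernel

instance : Group WNine :=
  Group.ofLeftAxioms mul_assoc' one_mul' fun x => inv_mul' ..

instance : Finite WNine := Finite.of_injective
  (fun x => (⟨toC x, toC_lt x⟩ : Fin 512)) fun x y h => toC_injective (congrArg Fin.val h)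

end WNine

/-- Forget the corner entry. -/
def forget : UTen →* WNine where
  toFun x := ⟨x.p12, x.p23, x.p34, x.p45, x.p13, x.p24, x.p35, x.p14, x.p25⟩
  map_one' := rfl
  map_mul' _ _ := rfl

end Cfsg.Agent.SylQuot
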